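import Mathlib
import Groth.Agent.Lib.Lead.FittStrat
import Groth.Agent.Lib.Lead.FP2
import Groth.Agent.Lib.Helper7.LimIdeal
import Groth.Agent.Lib.Helper7.FibEt.Smooth

set_option linter.style.haveILetI false
set_option linter.unusedVariables false
set_option linter.unusedSectionVars false
set_option autoImplicit false
set_option backward.isDefEq.respectTransparency.types false
set_option synthInstance.maxHeartbeats 400000
set_option maxHeartbeats 1600000

universe u

/-! helper7: fibres locally free of rank n: locally constructible locus via Fitting ideal sheaves (EGA IV 9.4.7) -/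

open CategoryTheory CategoryTheory.Limits AlgebraicGeometry TopologicalSpace

namespace Groth.Agent.Helper7.FibRank

/-- complements of locally constructible sets are locally constructible. -/
theorem isLocallyConstructible_compl {Z : Type*} [TopologicalSpace Z] {s : Set Z}
    (hs : Topology.IsLocallyConstructible s) : Topology.IsLocallyConstructible sᶜ := by
  intro x
  obtain ⟨U, hU, hUo, hc⟩ := hs x
  exact ⟨U, hU, hUo, hc.compl⟩

/-- a morphism factors through the closed subscheme of an ideal sheaf iff the pulled back ideal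
sheaf vanishes. -/
theorem exists_fac_subschemeι_iff {X T : Scheme.{u}} (𝓐 : X.IdealSheafData) (h : T ⟶ X) :
    (∃ g : T ⟶ 𝓐.subscheme, g ≫ 𝓐.subschemeι = h) ↔ 𝓐.comap h = ⊥ := by
  constructor
  · rintro ⟨g, rfl⟩
    rw [← le_bot_iff]
    apply Scheme.IdealSheafData.le_map_iff_comap_le.1
    rw [Scheme.IdealSheafData.map_bot]
    have h1 : 𝓐 = 𝓐.subschemeι.ker := (Scheme.IdealSheafData.ker_subschemeι 𝓐).symm
    conv_lhs => rw [h1]
    exact Scheme.Hom.le_ker_comp _ _
  · intro h1
    have hk : 𝓐.subschemeι.ker ≤ h.ker := by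
      rw [Scheme.IdealSheafData.ker_subschemeι, ← Scheme.IdealSheafData.map_bot]
      apply Scheme.IdealSheafData.le_map_iff_comap_le.2
      rw [h1]
    exact ⟨IsClosedImmersion.lift 𝓐.subschemeι h hk, IsClosedImmersion.lift_fac _ _ _⟩

/-- the pulled back ideal sheaf is the unit ideal iff the morphism misses the support. -/
theorem comap_eq_top_iff {X T : Scheme.{u}} (𝓑 : X.IdealSheafData) (h : T ⟶ X) :
    𝓑.comap h = ⊤ ↔ ∀ t : T, h t ∉ 𝓑.support := by
  rw [← Scheme.IdealSheafData.support_eq_bot_iff, Scheme.IdealSheafData.support_comap]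
  constructor
  · intro H t ht
    have h2 : t ∈ ((𝓑.support.preimage h.continuous : Closeds T) : Set T) := ht
    rw [H] at h2
    exact h2
  · intro H
    ext t
    simp only [TopologicalSpace.Closeds.coe_preimage, Set.mem_preimage, SetLike.mem_coe,
      TopologicalSpace.Closeds.coe_bot, Set.mem_empty_iff_false, iff_false]
    exact H t

/-- for a monomorphism `i : Z ⟶ X` of `S`-schemes, the induced morphism on the fibres over
`σ : T ⟶ S` is an isomorphism iff the projection from the fibre of `X` factors through `i`. -/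
theorem isIso_fibreMap_iff {Z X S T : Scheme.{u}} (i : Z ⟶ X) [Mono i] (f : X ⟶ S) (σ : T ⟶ S) :
    IsIso (pullback.lift (pullback.fst (i ≫ f) σ ≫ i) (pullback.snd (i ≫ f) σ)
      ((Category.assoc _ _ _).trans pullback.condition) : pullback (i ≫ f) σ ⟶ pullback f σ) ↔
    ∃ g : pullback f σ ⟶ Z, g ≫ i = pullback.fst f σ := by
  constructor
  · intro hm
    refine ⟨inv (pullback.lift (pullback.fst (i ≫ f) σ ≫ i) (pullback.snd (i ≫ f) σ)
      ((Category.assoc _ _ _).trans pullback.condition)) ≫ pullback.fst (i ≫ f) σ, ?_⟩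
    rw [Category.assoc, IsIso.inv_comp_eq, pullback.lift_fst]
  · rintro ⟨g, hg⟩
    refine ⟨⟨pullback.lift g (pullback.snd f σ) ?_, ?_, ?_⟩⟩
    · rw [← Category.assoc, hg, pullback.condition]
    · apply pullback.hom_ext
      · rw [Category.assoc, pullback.lift_fst, Category.id_comp, ← cancel_mono i, Category.assoc,
          hg, pullback.lift_fst]
      · rw [Category.assoc, pullback.lift_snd, Category.id_comp, pullback.lift_snd]
    · apply pullback.hom_ext
      · rw [Category.assoc, pullback.lift_fst, Category.id_comp, ← Category.assoc,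
          pullback.lift_fst, hg]
      · rw [Category.assoc, pullback.lift_snd, Category.id_comp, pullback.lift_snd]

section Loci

variable {X S : Scheme.{u}} (f : X ⟶ S) [LocallyOfFinitePresentation f] [QuasiCompact f]
  [QuasiSeparated f]

/-- the set of points whose fibre lies in the closed subscheme defined by an ideal sheaf of
finite type is locally constructible. -/
theorem isLocallyConstructible_setOf_comap_fiberι_eq_bot (𝓐 : X.IdealSheafData)
    (h𝓐 : ∀ U : X.affineOpens, (𝓐.ideal U).FG) :
    Topology.IsLocallyConstructible {s : S | 𝓐.comap (f.fiberι s) = ⊥} := by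
  haveI := Groth.Agent.Helper7.LimIdeal.lfp_subschemeι_of_fg 𝓐 h𝓐
  have key := Groth.Agent.Helper7.FibEt.isLocallyConstructible_setOf_isIso 𝓐.subschemeι f
  refine (congrArg Topology.IsLocallyConstructible ?_).mpr key
  ext s
  exact (exists_fac_subschemeι_iff 𝓐 (f.fiberι s)).symm.trans
    (isIso_fibreMap_iff 𝓐.subschemeι f (S.fromSpecResidueField s)).symm

/-- the set of points whose fibre misses the support of an ideal sheaf of finite type is
locally constructible. -/
theorem isLocallyConstructible_setOf_comap_fiberι_eq_top (𝓑 : X.IdealSheafData)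
    (h𝓑 : ∀ U : X.affineOpens, (𝓑.ideal U).FG) :
    Topology.IsLocallyConstructible {s : S | 𝓑.comap (f.fiberι s) = ⊤} := by
  haveI := Groth.Agent.Helper7.LimIdeal.lfp_subschemeι_of_fg 𝓑 h𝓑
  have key : Topology.IsLocallyConstructible (Set.range (𝓑.subschemeι ≫ f)) := by
    have h0 := (𝓑.subschemeι ≫ f).isLocallyConstructible_image (s := Set.univ)
      Topology.IsLocallyConstructible.univ
    rwa [Set.image_univ] at h0
  have hset : {s : S | 𝓑.comap (f.fiberι s) = ⊤} = (Set.range (𝓑.subschemeι ≫ f))ᶜ := by
    ext s
    show 𝓑.comap (f.fiberι s) = ⊤ ↔ s ∉ Set.range (𝓑.subschemeι ≫ f)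
    rw [comap_eq_top_iff]
    constructor
    · rintro H ⟨z, rfl⟩
      have hx : 𝓑.subschemeι z ∈ Set.range (f.fiberι ((𝓑.subschemeι ≫ f) z)) := by
        rw [Scheme.Hom.range_fiberι]
        exact (Scheme.Hom.comp_apply _ _ _).symm
      obtain ⟨t, ht⟩ := hx
      apply H t
      rw [ht]
      have h3 : 𝓑.subschemeι z ∈ Set.range 𝓑.subschemeι := ⟨z, rfl⟩
      rw [Scheme.IdealSheafData.range_subschemeι] at h3
      exact h3
    · rintro H t ht
      apply H
      have h1 : f.fiberι s t ∈ Set.range 𝓑.subschemeι := by
        rw [Scheme.IdealSheafData.range_subschemeι]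
        exact ht
      obtain ⟨z, hz⟩ := h1
      refine ⟨z, ?_⟩
      have h2 : f.fiberι s t ∈ f ⁻¹' {s} := by
        rw [← Scheme.Hom.range_fiberι]
        exact ⟨t, rfl⟩
      rw [Scheme.Hom.comp_apply, hz]
      exact h2
  rw [hset]
  exact isLocallyConstructible_compl key

variable (F : X.Modules) [F.IsQuasicoherent]

/-- Fitting ideal sheaves of a finitely presented module are of finite type. -/
theorem fg_sheafIdeal (hF : CohB1.IsFP F) (k : ℕ) (U : X.affineOpens) :
    ((Fitt.sheafIdeal F k).ideal U).FG := by
  have hft : CohB1.IsFT F := by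
    haveI := hF
    infer_instance
  rw [Groth.Agent.Lead.FittSh.sheafIdeal_ideal F hft k U]
  haveI := Groth.Agent.Lead.FP.fp_sections_of_isFP F hF U.2
  exact Groth.Agent.Helper4.Fitting.ideal_fg_of_finitePresentation k

theorem fg_lowIdeal (hF : CohB1.IsFP F) (n : ℕ) (U : X.affineOpens) :
    ((Groth.Agent.Lead.FittStrat.lowIdeal F n).ideal U).FG := by
  unfold Groth.Agent.Lead.FittStrat.lowIdeal
  split_ifs with hn
  · exact (Submodule.fg_bot : (⊥ : Ideal Γ(X, U.1)).FG)
  · exact fg_sheafIdeal F hF (n - 1) U

/-- **EGA IV 9.4.7, rank `n`**: the set of points over which the fibre of a finitely presented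
module is locally free of rank `n` is locally constructible. -/
theorem isLocallyConstructible_setOf_fibre_isFinLocFreeOfRank (hF : CohB1.IsFP F) (n : ℕ) :
    Topology.IsLocallyConstructible
      {s : S | FlatMod.IsFinLocFreeOfRank n ((Scheme.Modules.pullback (f.fiberι s)).obj F)} := by
  have hft : CohB1.IsFT F := by
    haveI := hF
    infer_instance
  have h1 := isLocallyConstructible_setOf_comap_fiberι_eq_bot f _ (fg_lowIdeal F hF n)
  have h2 := isLocallyConstructible_setOf_comap_fiberι_eq_top f _ (fg_sheafIdeal F hF n)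
  refine (congrArg Topology.IsLocallyConstructible ?_).mpr (h1.inter h2)
  ext s
  exact Groth.Agent.Lead.FittStrat.isFinLocFreeOfRank_pullback_iff F hft n (f.fiberι s)

end Loci

end Groth.Agent.Helper7.FibRank
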