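import Mathlib
import Groth.Agent.Lib.Helper7.FibRank.Main
import Groth.Agent.Lib.Helper7.FibSurj.QF
import Groth.Agent.Lib.Lead.FLF6
import Groth.Agent.Lib.Lead.FLF7

set_option linter.style.haveILetI false
set_option linter.unusedVariables false
set_option linter.unusedSectionVars false
set_option autoImplicit false
set_option backward.isDefEq.respectTransparency.types false
set_option synthInstance.maxHeartbeats 400000
set_option maxHeartbeats 1600000

universe u

/-! helper7: fibres finite locally free: locally constructible locus via rank strata V(Fitt_{r-1}) minus V(Fitt_r) and the open immersion locus (EGA IV 9.4.7) -/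

open CategoryTheory CategoryTheory.Limits AlgebraicGeometry TopologicalSpace

namespace Groth.Agent.Helper7.FibRank

open Groth.Agent.Lead Groth.Agent.Lead.FittStrat

section Strata

variable {X : Scheme.{u}}

/-- the open complement of the support of an ideal sheaf. -/
abbrev cosupp (𝓑 : X.IdealSheafData) : X.Opens := 𝓑.support.compl

/-- the locally closed subscheme `V(𝓐) ∖ V(𝓑)`. -/
noncomputable abbrev stratum (𝓐 𝓑 : X.IdealSheafData) : Scheme.{u} :=
  pullback 𝓐.subschemeι (cosupp 𝓑).ι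

/-- the immersion of the locally closed subscheme `V(𝓐) ∖ V(𝓑)`. -/
noncomputable abbrev stratumι (𝓐 𝓑 : X.IdealSheafData) : stratum 𝓐 𝓑 ⟶ X :=
  pullback.fst 𝓐.subschemeι (cosupp 𝓑).ι ≫ 𝓐.subschemeι

/-- the universal property of `V(𝓐) ∖ V(𝓑)`. -/
theorem exists_fac_stratumι_iff (𝓐 𝓑 : X.IdealSheafData) {T : Scheme.{u}} (h : T ⟶ X) :
    (∃ g : T ⟶ stratum 𝓐 𝓑, g ≫ stratumι 𝓐 𝓑 = h) ↔ (𝓐.comap h = ⊥ ∧ 𝓑.comap h = ⊤) := by
  constructor
  · rintro ⟨g, rfl⟩
    refine ⟨(exists_fac_subschemeι_iff 𝓐 _).1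
      ⟨g ≫ pullback.fst 𝓐.subschemeι (cosupp 𝓑).ι, Category.assoc _ _ _⟩, ?_⟩
    rw [comap_eq_top_iff]
    intro t ht
    have h2 : (g ≫ pullback.fst 𝓐.subschemeι (cosupp 𝓑).ι ≫ 𝓐.subschemeι) t =
        (cosupp 𝓑).ι
          ((g ≫ pullback.snd 𝓐.subschemeι (cosupp 𝓑).ι) t) := by
      rw [pullback.condition]
      rfl
    have h3 : (cosupp 𝓑).ι
        ((g ≫ pullback.snd 𝓐.subschemeι (cosupp 𝓑).ι) t) ∈
          (cosupp 𝓑) :=
      ((g ≫ pullback.snd 𝓐.subschemeι (cosupp 𝓑).ι) t).2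
    rw [← h2] at h3
    exact h3 ht
  · rintro ⟨h1, h2⟩
    obtain ⟨g1, hg1⟩ := (exists_fac_subschemeι_iff 𝓐 h).2 h1
    have hr : Set.range h ⊆ Set.range (cosupp 𝓑).ι := by
      rw [Scheme.Opens.range_ι]
      rintro _ ⟨t, rfl⟩
      exact (comap_eq_top_iff 𝓑 h).1 h2 t
    refine ⟨pullback.lift g1 (IsOpenImmersion.lift (cosupp 𝓑).ι h hr) ?_, ?_⟩
    · rw [hg1, IsOpenImmersion.lift_fac]
    · rw [← Category.assoc, pullback.lift_fst, hg1]

/-- the complement of the support of an ideal sheaf of finite type is retrocompact. -/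
theorem quasiCompact_compl_support_ι (𝓑 : X.IdealSheafData)
    (h𝓑 : ∀ U : X.affineOpens, (𝓑.ideal U).FG) :
    QuasiCompact (cosupp 𝓑).ι := by
  rw [quasiCompact_iff_forall_isAffineOpen]
  intro V hV
  have hpre : (((cosupp 𝓑).ι ⁻¹ᵁ V : (cosupp 𝓑).toScheme.Opens) :
      Set (cosupp 𝓑).toScheme) =
      ((cosupp 𝓑).ι : _ → X) ⁻¹' (V : Set X) := rfl
  rw [(cosupp 𝓑).ι.isOpenEmbedding.isEmbedding.isCompact_iff, hpre,
    Set.image_preimage_eq_inter_range, Scheme.Opens.range_ι]
  obtain ⟨t, ht⟩ := h𝓑 ⟨V, hV⟩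
  have ht' : Ideal.span (t : Set Γ(X, V)) = 𝓑.ideal ⟨V, hV⟩ := ht
  have h2 : (V : Set X) ∩ ((cosupp 𝓑) : Set X) =
      ⋃ g ∈ t, (X.basicOpen g : Set X) := by
    ext x
    constructor
    · rintro ⟨hxV, hxW⟩
      by_contra hcon
      apply hxW
      have h5 : x ∈ X.zeroLocus (U := V) (𝓑.ideal ⟨V, hV⟩) ∩ (V : Set X) := by
        refine ⟨?_, hxV⟩
        rw [← ht', Scheme.zeroLocus_span, Scheme.mem_zeroLocus_iff]
        intro g hg hxg
        exact hcon (Set.mem_iUnion₂.2 ⟨g, hg, hxg⟩)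
      rw [← 𝓑.coe_support_inter ⟨V, hV⟩] at h5
      exact h5.1
    · intro hx
      obtain ⟨g, hg, hxg⟩ := Set.mem_iUnion₂.1 hx
      have hxV : x ∈ (V : Set X) := X.basicOpen_le g hxg
      refine ⟨hxV, fun hxs => ?_⟩
      have h5 : x ∈ X.zeroLocus (U := V) (𝓑.ideal ⟨V, hV⟩) ∩ (V : Set X) := by
        rw [← 𝓑.coe_support_inter ⟨V, hV⟩]
        exact ⟨hxs, hxV⟩
      have h6 := h5.1
      rw [← ht', Scheme.zeroLocus_span, Scheme.mem_zeroLocus_iff] at h6
      exact h6 g hg hxg
  rw [h2]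
  exact t.isCompact_biUnion fun g _ => (hV.basicOpen g).isCompact

/-- the strata of ideal sheaves of finite type are of finite presentation over the base. -/
theorem stratumι_props (𝓐 𝓑 : X.IdealSheafData) (h𝓐 : ∀ U : X.affineOpens, (𝓐.ideal U).FG)
    (h𝓑 : ∀ U : X.affineOpens, (𝓑.ideal U).FG) {S : Scheme.{u}} (f : X ⟶ S)
    [LocallyOfFinitePresentation f] [QuasiCompact f] [QuasiSeparated f] :
    LocallyOfFinitePresentation (stratumι 𝓐 𝓑 ≫ f) ∧ QuasiCompact (stratumι 𝓐 𝓑 ≫ f) ∧
      QuasiSeparated (stratumι 𝓐 𝓑 ≫ f) := by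
  haveI := Groth.Agent.Helper7.LimIdeal.lfp_subschemeι_of_fg 𝓐 h𝓐
  haveI := quasiCompact_compl_support_ι 𝓑 h𝓑
  exact ⟨inferInstance, inferInstance, inferInstance⟩

end Strata

section Rank

open Scheme.Modules

variable {Y : Scheme.{u}}

theorem isFinLocFreeOfRank_of_iso {M M' : Y.Modules} (e : M ≅ M') {n : ℕ}
    (h : FlatMod.IsFinLocFreeOfRank n M) : FlatMod.IsFinLocFreeOfRank n M' := by
  intro x
  obtain ⟨U, hx, ⟨i⟩⟩ := h x
  exact ⟨U, hx, ⟨(restrictFunctor U.ι).mapIso e.symm ≪≫ i⟩⟩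

theorem isFinLocFreeOfRank_freeMod (n : ℕ) : FlatMod.IsFinLocFreeOfRank n (FlatMod.freeMod Y n) :=
  fun x => ⟨⊤, trivial, ⟨FLF.freeRestrictIso (⊤ : Y.Opens).ι n⟩⟩

/-- local freeness of given rank is preserved by further pullback. -/
theorem isFinLocFreeOfRank_pullback_comp (G : Y.Modules) [G.IsQuasicoherent] (hG : CohB1.IsFT G)
    {T T' : Scheme.{u}} (a : T ⟶ Y) (k : T' ⟶ T) {m : ℕ}
    (h : FlatMod.IsFinLocFreeOfRank m ((Scheme.Modules.pullback a).obj G)) :
    FlatMod.IsFinLocFreeOfRank m ((Scheme.Modules.pullback (k ≫ a)).obj G) := by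
  rw [isFinLocFreeOfRank_pullback_iff G hG m] at h ⊢
  rw [Scheme.IdealSheafData.comap_comp, Scheme.IdealSheafData.comap_comp, h.1, h.2]
  exact ⟨Scheme.IdealSheafData.comap_bot k, Scheme.IdealSheafData.comap_top k⟩

/-- the rank of a locally free module on a nonempty scheme is unique. -/
theorem rank_unique {T : Scheme.{u}} (hT : Nonempty T) (M : T.Modules) {r m : ℕ}
    (h1 : FlatMod.IsFinLocFreeOfRank r M) (h2 : FlatMod.IsFinLocFreeOfRank m M) : r = m := by
  obtain ⟨t⟩ := hT
  obtain ⟨_, ⟨U, hU, rfl⟩, htU, -⟩ := T.isBasis_affineOpens.exists_subset_of_mem_open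
    (Set.mem_univ t) isOpen_univ
  have e1 := ((FLF.isFinLocFreeOfRank_iff M r).1 h1).2 U hU (hU.primeIdealOf ⟨t, htU⟩)
  have e2 := ((FLF.isFinLocFreeOfRank_iff M m).1 h2).2 U hU (hU.primeIdealOf ⟨t, htU⟩)
  exact e1.symm.trans e2

/-- a quasi-coherent module of finite type on the spectrum of a field is free. -/
theorem exists_isFinLocFreeOfRank_of_field {κ : CommRingCat.{u}} (hκ : IsField κ)
    (N : (Spec κ).Modules) [N.IsQuasicoherent] (hN : CohB1.IsFT N) :
    ∃ r, FlatMod.IsFinLocFreeOfRank r N := by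
  have hfield : IsField Γ(Spec κ, ⊤) :=
    MulEquiv.isField hκ (Scheme.ΓSpecIso κ).commRingCatIsoToRingEquiv.toMulEquiv
  have hflf : FlatMod.IsFinLocFree N := by
    apply FLF.isFinLocFree_of_affine_nhds
    intro x
    have hfin : Module.Finite Γ(Spec κ, ⊤) Γ(N, ⊤) := FLF.ft_sections N hN (isAffineOpen_top _)
    refine ⟨⊤, isAffineOpen_top _, trivial, hfin, ?_⟩
    letI := hfield.toField
    exact Module.Projective.of_free
  letI := hκ.toField
  haveI : Subsingleton (PrimeSpectrum κ) := inferInstance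
  haveI : Nonempty (PrimeSpectrum κ) := inferInstance
  obtain ⟨x₀⟩ : Nonempty ↥(Spec κ) := ‹Nonempty (PrimeSpectrum κ)›
  obtain ⟨U, n, hxU, he⟩ := hflf x₀
  refine ⟨n, fun x => ⟨U, ?_, he⟩⟩
  have hx : x = x₀ := Subsingleton.elim (α := PrimeSpectrum κ) x x₀
  rw [hx]
  exact hxU

theorem exists_isFinLocFreeOfRank_residue (G : Y.Modules) [G.IsQuasicoherent]
    (hG : CohB1.IsFT G) (y : Y) :
    ∃ r, FlatMod.IsFinLocFreeOfRank r ((Scheme.Modules.pullback (Y.fromSpecResidueField y)).obj G) := by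
  haveI := PB.isQuasicoherent_pullback (Y.fromSpecResidueField y) G
  exact exists_isFinLocFreeOfRank_of_field (Field.toIsField (Y.residueField y)) _
    (PB.isFT_pullback _ G hG)

/-- a module is finite locally free iff all its rank strata are open. -/
theorem isFinLocFree_iff_forall_isOpenImmersion (G : Y.Modules) [G.IsQuasicoherent]
    (hG : CohB1.IsFT G) {Z : ℕ → Scheme.{u}} (j : ∀ r, Z r ⟶ Y) (hjm : ∀ r, Mono (j r))
    (hj : ∀ (r : ℕ) (T : Scheme.{u}) (h : T ⟶ Y), (∃ g : T ⟶ Z r, g ≫ j r = h) ↔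
      FlatMod.IsFinLocFreeOfRank r ((Scheme.Modules.pullback h).obj G)) :
    FlatMod.IsFinLocFree G ↔ ∀ r, IsOpenImmersion (j r) := by
  haveI := hjm
  constructor
  · intro hflf r
    choose U m hyU he using hflf
    apply IsZariskiLocalAtTarget.of_iSup_eq_top (P := @IsOpenImmersion) U
    · rw [eq_top_iff]
      intro y _
      exact Opens.mem_iSup.2 ⟨y, hyU y⟩
    intro y
    obtain ⟨e⟩ := he y
    have hrk : FlatMod.IsFinLocFreeOfRank (m y) ((Scheme.Modules.pullback (U y).ι).obj G) :=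
      isFinLocFreeOfRank_of_iso
        (e.symm ≪≫ (restrictFunctorIsoPullback (U y).ι).app G) (isFinLocFreeOfRank_freeMod (m y))
    by_cases hmr : m y = r
    · rw [hmr] at hrk
      obtain ⟨gU, hgU⟩ := (hj r _ (U y).ι).2 hrk
      have hpb := isPullback_morphismRestrict (j r) (U y)
      haveI : Mono (j r ∣_ U y) := hpb.mono_fst_of_mono
      haveI : IsSplitEpi (j r ∣_ U y) :=
        IsSplitEpi.mk' ⟨hpb.lift (𝟙 _) gU (by rw [Category.id_comp, hgU]), hpb.lift_fst _ _ _⟩
      haveI : IsIso (j r ∣_ U y) := isIso_of_mono_of_isSplitEpi _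
      infer_instance
    · haveI : IsEmpty ((j r ⁻¹ᵁ U y).toScheme) := by
        by_contra hne
        rw [not_isEmpty_iff] at hne
        apply hmr
        have h1 : FlatMod.IsFinLocFreeOfRank r
            ((Scheme.Modules.pullback ((j r ⁻¹ᵁ U y).ι ≫ j r)).obj G) := (hj r _ _).1 ⟨_, rfl⟩
        have h2 : FlatMod.IsFinLocFreeOfRank (m y)
            ((Scheme.Modules.pullback ((j r ∣_ U y) ≫ (U y).ι)).obj G) :=
          isFinLocFreeOfRank_pullback_comp G hG _ _ hrk
        rw [morphismRestrict_ι] at h2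
        exact rank_unique hne _ h2 h1
      infer_instance
  · intro hopen
    apply FLF.isFinLocFree_of_charts
    intro y
    obtain ⟨r, hr⟩ := exists_isFinLocFreeOfRank_residue G hG y
    obtain ⟨g, hg⟩ := (hj r _ _).2 hr
    refine ⟨Z r, j r, hopen r, ?_, ?_⟩
    · obtain ⟨ω⟩ : Nonempty ↥(Spec (Y.residueField y)) := inferInstance
      refine ⟨g ω, ?_⟩
      rw [← Scheme.Hom.comp_apply, hg, Scheme.fromSpecResidueField_apply]
    · haveI := hopen r
      have h1 : FlatMod.IsFinLocFreeOfRank r ((Scheme.Modules.pullback (j r)).obj G) :=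
        (hj r _ (j r)).1 ⟨𝟙 _, Category.id_comp _⟩
      exact FLF.isFinLocFree_of_iso ((restrictFunctorIsoPullback (j r)).app G).symm
        (FLF.isFinLocFree_of_isFinLocFreeOfRank _ r h1)

end Rank

section Main

variable {X S : Scheme.{u}} (f : X ⟶ S) (F : X.Modules) [F.IsQuasicoherent]

/-- eventually the Fitting ideals have empty support on a quasi-compact subset. -/
theorem exists_forall_notMem_support_sheafIdeal (hft : CohB1.IsFT F) {K : Set X}
    (hK : IsCompact K) :
    ∃ N : ℕ, ∀ k, N ≤ k → ∀ x ∈ K, x ∉ (Fitt.sheafIdeal F k).support := by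
  let W : ℕ → Set X := fun k => ((Fitt.sheafIdeal F k).support : Set X)ᶜ
  have hWo : ∀ k, IsOpen (W k) := fun k => (Fitt.sheafIdeal F k).support.isClosed.isOpen_compl
  have hmono : Monotone W := by
    intro k k' hkk' x hx hx'
    exact hx (Scheme.IdealSheafData.support_antitone (sheafIdeal_mono F hft hkk') hx')
  have hcov : K ⊆ ⋃ k, W k := by
    intro x _
    obtain ⟨_, ⟨U, hU, rfl⟩, hxU, -⟩ := X.isBasis_affineOpens.exists_subset_of_mem_open
      (Set.mem_univ x) isOpen_univ
    haveI := FLF.ft_sections F hft hU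
    obtain ⟨n, s, hs⟩ := Module.Finite.exists_fin (R := Γ(X, U)) (M := Γ(F, U))
    refine Set.mem_iUnion.2 ⟨n, fun hx => ?_⟩
    have h1 := (FittSh.mem_support_iff_le (Fitt.sheafIdeal F n) hU ⟨x, hxU⟩).1 hx
    rw [FittSh.sheafIdeal_ideal F hft n ⟨U, hU⟩,
      Groth.Agent.Helper4.Fitting.ideal_eq_top_of_span s hs n le_rfl] at h1
    exact (hU.primeIdealOf ⟨x, hxU⟩).isPrime.ne_top (top_le_iff.1 h1)
  obtain ⟨N, hN⟩ := hK.elim_directed_cover W hWo hcov hmono.directed_le
  exact ⟨N, fun k hk x hx => hmono hk (hN hx)⟩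

/-- beyond the bound, the strata have empty fibres. -/
theorem isEmpty_fibre_stratum (hft : CohB1.IsFT F) (V : S.Opens) (N : ℕ)
    (hN : ∀ k, N ≤ k → ∀ x ∈ (f ⁻¹ᵁ V : Set X), x ∉ (Fitt.sheafIdeal F k).support)
    (r : ℕ) (hr : N + 1 ≤ r) (s : S) (hs : s ∈ V) :
    IsEmpty ↥(pullback (stratumι (lowIdeal F r) (Fitt.sheafIdeal F r) ≫ f)
      (S.fromSpecResidueField s)) := by
  constructor
  intro w
  obtain ⟨x, hx⟩ : ∃ x : X, x = (stratumι (lowIdeal F r) (Fitt.sheafIdeal F r))
      ((pullback.fst (stratumι (lowIdeal F r) (Fitt.sheafIdeal F r) ≫ f)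
        (S.fromSpecResidueField s)) w) := ⟨_, rfl⟩
  have hfx : f x = s := by
    rw [hx]
    have h0 := congrArg (fun φ : _ ⟶ S => φ w)
      (pullback.condition (f := stratumι (lowIdeal F r) (Fitt.sheafIdeal F r) ≫ f)
        (g := S.fromSpecResidueField s))
    simp only [Scheme.Hom.comp_apply] at h0
    rw [Scheme.fromSpecResidueField_apply] at h0
    exact h0
  have hsupp : x ∈ (lowIdeal F r).support := by
    have h3 : x ∈ Set.range (lowIdeal F r).subschemeι := by
      rw [hx]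
      change (pullback.fst (lowIdeal F r).subschemeι _ ≫ (lowIdeal F r).subschemeι) _ ∈ _
      rw [Scheme.Hom.comp_apply]
      exact ⟨_, rfl⟩
    rwa [Scheme.IdealSheafData.range_subschemeι] at h3
  have hlow : lowIdeal F r = Fitt.sheafIdeal F (r - 1) := by
    unfold lowIdeal
    rw [if_neg (by omega)]
  rw [hlow] at hsupp
  refine hN (r - 1) (by omega) x ?_ hsupp
  change f x ∈ V
  rw [hfx]
  exact hs

variable [LocallyOfFinitePresentation f] [QuasiCompact f] [QuasiSeparated f]

/-- the fibre is finite locally free iff all its rank strata are open. -/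
theorem isFinLocFree_fibre_iff (hF : CohB1.IsFP F) (s : S) :
    FlatMod.IsFinLocFree ((Scheme.Modules.pullback (f.fiberι s)).obj F) ↔
      ∀ r, IsOpenImmersion
        (FibSurj.fibMap (stratumι (lowIdeal F r) (Fitt.sheafIdeal F r)) f s) := by
  have hft : CohB1.IsFT F := by
    haveI := hF
    infer_instance
  show FlatMod.IsFinLocFree
      ((Scheme.Modules.pullback (pullback.fst f (S.fromSpecResidueField s))).obj F) ↔ _
  haveI := PB.isQuasicoherent_pullback (pullback.fst f (S.fromSpecResidueField s)) F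
  have hGft := PB.isFT_pullback (pullback.fst f (S.fromSpecResidueField s)) F hft
  have hmono : ∀ r, Mono (FibSurj.fibMap (stratumι (lowIdeal F r) (Fitt.sheafIdeal F r)) f s) :=
    fun r => (FibSurj.isPullback_fibMap _ f s).mono_snd_of_mono
  refine isFinLocFree_iff_forall_isOpenImmersion (Y := pullback f (S.fromSpecResidueField s)) _ hGft
    (fun r => FibSurj.fibMap (stratumι (lowIdeal F r) (Fitt.sheafIdeal F r)) f s) hmono ?_
  intro r T h
  have hpb := FibSurj.isPullback_fibMap (stratumι (lowIdeal F r) (Fitt.sheafIdeal F r)) f s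
  have e1 : (∃ g : T ⟶ pullback (stratumι (lowIdeal F r) (Fitt.sheafIdeal F r) ≫ f)
        (S.fromSpecResidueField s),
        g ≫ FibSurj.fibMap (stratumι (lowIdeal F r) (Fitt.sheafIdeal F r)) f s = h) ↔
      ∃ g' : T ⟶ stratum (lowIdeal F r) (Fitt.sheafIdeal F r),
        g' ≫ stratumι (lowIdeal F r) (Fitt.sheafIdeal F r) =
          h ≫ pullback.fst f (S.fromSpecResidueField s) := by
    constructor
    · rintro ⟨g, rfl⟩
      exact ⟨g ≫ pullback.fst _ _, (Category.assoc _ _ _).trans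
        ((congrArg (g ≫ ·) (FibSurj.fibMap_fst _ f s).symm).trans (Category.assoc _ _ _).symm)⟩
    · rintro ⟨g', hg'⟩
      exact ⟨hpb.lift g' h hg', hpb.lift_snd _ _ _⟩
  exact e1.trans ((exists_fac_stratumι_iff _ _ _).trans
    ((isFinLocFreeOfRank_pullback_iff F hft r
        (h ≫ pullback.fst f (S.fromSpecResidueField s))).symm.trans
      ⟨isFinLocFreeOfRank_of_iso ((Scheme.Modules.pullbackComp h
          (pullback.fst f (S.fromSpecResidueField s))).app F).symm,
        isFinLocFreeOfRank_of_iso ((Scheme.Modules.pullbackComp h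
          (pullback.fst f (S.fromSpecResidueField s))).app F)⟩))

/-- **EGA IV 9.4.7**: the set of points over which the fibre of a finitely presented module is
finite locally free is locally constructible. -/
theorem isLocallyConstructible_setOf_fibre_isFinLocFree (hF : CohB1.IsFP F) :
    Topology.IsLocallyConstructible
      {s : S | FlatMod.IsFinLocFree ((Scheme.Modules.pullback (f.fiberι s)).obj F)} := by
  have hft : CohB1.IsFT F := by
    haveI := hF
    infer_instance
  have hM : ∀ r : ℕ, Topology.IsLocallyConstructible {s : S | IsOpenImmersion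
      (FibSurj.fibMap (stratumι (lowIdeal F r) (Fitt.sheafIdeal F r)) f s)} := by
    intro r
    obtain ⟨h1, h2, h3⟩ := stratumι_props (lowIdeal F r) (Fitt.sheafIdeal F r)
      (fg_lowIdeal F hF r) (fg_sheafIdeal F hF r) f
    exact FibEt.isLocallyConstructible_setOf_isOpenImmersion _ f
  apply Topology.IsLocallyConstructible.of_isOpenCover
    (U := fun V : S.affineOpens => (V : S.Opens)) (iSup_affineOpens_eq_top S)
  intro V
  obtain ⟨N, hN⟩ := exists_forall_notMem_support_sheafIdeal F hft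
    (f.isCompact_preimage (U := (V : S.Opens)) V.2.isCompact)
  have key := (Topology.IsLocallyConstructible.iInter fun r : Fin (N + 1) =>
    hM r).preimage_of_isOpenEmbedding (V : S.Opens).2.isOpenEmbedding_subtypeVal
  refine (congrArg Topology.IsLocallyConstructible ?_).mpr key
  ext ⟨s, hs⟩
  show FlatMod.IsFinLocFree ((Scheme.Modules.pullback (f.fiberι s)).obj F) ↔
    s ∈ ⋂ r : Fin (N + 1), {s : S | IsOpenImmersion
      (FibSurj.fibMap (stratumι (lowIdeal F r) (Fitt.sheafIdeal F r)) f s)}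
  rw [isFinLocFree_fibre_iff f F hF s, Set.mem_iInter]
  constructor
  · intro h r
    exact h r
  · intro h r
    by_cases hr : r < N + 1
    · exact h ⟨r, hr⟩
    · haveI := isEmpty_fibre_stratum f F hft (V : S.Opens) N hN r (by omega) s hs
      infer_instance

end Main

end Groth.Agent.Helper7.FibRank
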